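import Cfsg.Agent.Lib.ChevCov.Neg

/-!
# The action of `n̄_i` and `h̄_i(c)` on all the root elements of Steinberg's presented group

The transfer lemma gives it for roots other than `±p_i`; the root element of `p_i` is isolated in a commutator relation.
-/

set_option autoImplicit false

namespace Cfsg.Agent.Lib.ChevCov

open Cfsg.Lie Matrix Cfsg.Agent.Lib.Chev
open Cfsg.Agent.Lib.ChevPres (NegOK negTerm negWord commWord_neg neg_ne_of WOK PresOK)

variable {K : Type*} [Field K]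

variable {T : Tabs} {X : Extra} {R : RootTab} {D : ChevalleyDatum} (hF : Full T X R D)

section Isolate

variable {g : D.SteinbergCover K} {p : ℕ} {σ : ℕ → ℕ} {u : ℕ → K}

theorem conj_wb (hg : ∀ s < D.nroots, s ≠ p → s ≠ D.neg p → ∀ t, g * D.scGen K s t * g⁻¹ = D.scGen K (σ s) (u s * t))
    (L : List (ℕ × K)) (hL : ∀ q ∈ L, q.1 < D.nroots ∧ q.1 ≠ p ∧ q.1 ≠ D.neg p) :
    g * wb D K L * g⁻¹ = wb D K (L.map fun q => (σ q.1, u q.1 * q.2)) := by
  induction L with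
  | nil => simp [wb]
  | cons q L ih =>
    have h1 := hL q List.mem_cons_self
    have h2 := ih (fun q' hq' => hL q' (List.mem_cons_of_mem _ hq'))
    rw [List.map_cons, wb_cons, wb_cons, ← h2, ← hg q.1 h1.1 h1.2.1 h1.2.2 q.2]
    group

/-- Isolating a root element in a commutator. -/
theorem isolate
    (hg : ∀ s < D.nroots, s ≠ p → s ≠ D.neg p → ∀ t, g * D.scGen K s t * g⁻¹ = D.scGen K (σ s) (u s * t))
    {a b : ℕ} (ha : a < D.nroots) (hb : b < D.nroots) (hba : b ≠ a) (hbna : b ≠ D.neg a)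
    (ha1 : a ≠ p) (ha2 : a ≠ D.neg p) (hb1 : b ≠ p) (hb2 : b ≠ D.neg p)
    (hσa : σ a < D.nroots) (hσb : σ b < D.nroots) (hσba : σ b ≠ σ a) (hσbna : σ b ≠ D.neg (σ a))
    (hcompat : ∀ t w : K, D.commWord K (σ a) (σ b) (u a * t) (u b * w) =
      (D.commWord K a b t w).map fun q => (σ q.1, u q.1 * q.2))
    {pre suf : List (ℕ × ℤ × ℕ × ℕ)} {C : ℤ} {i₀ : ℕ}
    (hL : D.commTerms a b = pre ++ (p, C, i₀, 1) :: suf) (hC : C * C = 1)
    (hpre : ∀ q ∈ pre, q.1 < D.nroots ∧ q.1 ≠ p ∧ q.1 ≠ D.neg p)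
    (hsuf : ∀ q ∈ suf, q.1 < D.nroots ∧ q.1 ≠ p ∧ q.1 ≠ D.neg p) (v : K) :
    g * D.scGen K p v * g⁻¹ = D.scGen K (σ p) (u p * v) := by
  have hC' : ((C : ℤ) : K) * ((C : ℤ) : K) = 1 := by
    have := congrArg (fun z : ℤ => (z : K)) hC
    simpa using this
  set κ : K := (C : K) * (-1 : K) ^ i₀ with hκ
  have hm : ((-1 : K) ^ i₀) * ((-1 : K) ^ i₀) = 1 := by
    rw [← mul_pow]; simp
  have hκ2 : κ * κ = 1 := by
    rw [hκ]
    linear_combination ((-1 : K) ^ i₀ * (-1 : K) ^ i₀) * hC' + hm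
  -- the parameter
  set w : K := κ * v with hw
  have he : (C : K) * (-1 : K) ^ i₀ * w ^ 1 = v := by
    rw [pow_one, hw, ← hκ, ← mul_assoc, hκ2, one_mul]
  have hword : D.commWord K a b 1 w =
      pre.map (fun c => (c.1, (c.2.1 : K) * (-1) ^ c.2.2.1 * w ^ c.2.2.2)) ++ (p, v) ::
        suf.map (fun c => (c.1, (c.2.1 : K) * (-1) ^ c.2.2.1 * w ^ c.2.2.2)) := by
    unfold ChevalleyDatum.commWord
    rw [hL, List.map_append, List.map_cons]
    simp only [he]
  set L₁ := pre.map (fun c => (c.1, (c.2.1 : K) * (-1) ^ c.2.2.1 * w ^ c.2.2.2)) with hL₁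
  set L₂ := suf.map (fun c => (c.1, (c.2.1 : K) * (-1) ^ c.2.2.1 * w ^ c.2.2.2)) with hL₂
  have hL₁' : ∀ q ∈ L₁, q.1 < D.nroots ∧ q.1 ≠ p ∧ q.1 ≠ D.neg p := by
    intro q hq
    rw [hL₁, List.mem_map] at hq
    obtain ⟨c, hc, rfl⟩ := hq
    exact hpre c hc
  have hL₂' : ∀ q ∈ L₂, q.1 < D.nroots ∧ q.1 ≠ p ∧ q.1 ≠ D.neg p := by
    intro q hq
    rw [hL₂, List.mem_map] at hq
    obtain ⟨c, hc, rfl⟩ := hq
    exact hsuf c hc
  -- the two commutator relations
  have h0 := yb_comm D ha hb hba hbna (1 : K) w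
  have h1 := yb_comm D hσa hσb hσba hσbna (u a * 1) (u b * w)
  rw [hcompat, hword, List.map_append, List.map_cons, wb_append, wb_cons] at h1
  rw [hword, wb_append, wb_cons] at h0
  have hYa := hg a ha ha1 ha2 (1 : K)
  have hYb := hg b hb hb1 hb2 w
  have h2 := congrArg (fun x => g * x * g⁻¹) h0
  simp only at h2
  have h3 : g * (D.scGen K b w * D.scGen K a 1) * g⁻¹ =
      (g * D.scGen K b w * g⁻¹) * (g * D.scGen K a 1 * g⁻¹) := by group
  have h4 : g * (D.scGen K a 1 * D.scGen K b w * (wb D K L₁ * (D.scGen K p v * wb D K L₂))) * g⁻¹ =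
      (g * D.scGen K a 1 * g⁻¹) * (g * D.scGen K b w * g⁻¹) * (g * wb D K L₁ * g⁻¹) *
        (g * D.scGen K p v * g⁻¹) * (g * wb D K L₂ * g⁻¹) := by group
  rw [h3, h4, hYa, hYb, h1, conj_wb hg L₁ hL₁', conj_wb hg L₂ hL₂'] at h2
  simp only [mul_assoc] at h2
  have h6 := mul_left_cancel (mul_left_cancel (mul_left_cancel h2))
  have h8 : g * (D.scGen K p v * (g⁻¹ * wb D K (List.map (fun q => (σ q.1, u q.1 * q.2)) L₂))) =
      (g * D.scGen K p v * g⁻¹) * wb D K (List.map (fun q => (σ q.1, u q.1 * q.2)) L₂) := by group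
  rw [h8] at h6
  exact (mul_right_cancel h6).symm

end Isolate

include hF in
/-- The compatibility for `n̄_i`. -/
theorem compat_wf {i a b : ℕ} (hi : i < D.rank) (ha : a < D.nroots) (hb : b < D.nroots)
    (hterms : D.commTerms (X.wf i a) (X.wf i b) = (D.commTerms a b).map (transTerm X i a b)) (t w : K) :
    D.commWord K (X.wf i a) (X.wf i b) (((X.eta i a : ℤ) : K) * t) (((X.eta i b : ℤ) : K) * w) =
      (D.commWord K a b t w).map fun q => (X.wf i q.1, ((X.eta i q.1 : ℤ) : K) * q.2) := by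
  unfold ChevalleyDatum.commWord
  rw [hterms, List.map_map, List.map_map]
  apply List.map_congr_left
  intro c _
  simp only [Function.comp, transTerm, ipow_eq, Prod.mk.injEq, true_and]
  have h1 := hF.eta_sq (F := K) hi ha
  have h2 := hF.eta_sq (F := K) hi hb
  have h3 : (((X.eta i a : ℤ) : K) ^ c.2.2.1) * (((X.eta i a : ℤ) : K) ^ c.2.2.1) = 1 := by
    rw [← mul_pow, h1, one_pow]
  have h4 : (((X.eta i b : ℤ) : K) ^ c.2.2.2) * (((X.eta i b : ℤ) : K) ^ c.2.2.2) = 1 := by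
    rw [← mul_pow, h2, one_pow]
  push_cast
  rw [← mul_neg, mul_pow, mul_pow]
  generalize (((X.eta i a : ℤ) : K) ^ c.2.2.1) = A at *
  generalize (((X.eta i b : ℤ) : K) ^ c.2.2.2) = B at *
  have h5 : A * A * (B * B) = 1 := by rw [h3, h4, one_mul]
  linear_combination (((X.eta i c.1 : ℤ) : K) * (c.2.1 : K) * (-t) ^ c.2.2.1 * w ^ c.2.2.2) * h5

include hF in
theorem cartan_comm {i a b : ℕ} (hi : i < D.rank) (ha : a < D.nroots) (hb : b < D.nroots) (hba : b ≠ a)
    (hbna : b ≠ D.neg a) {c : ℕ × ℤ × ℕ × ℕ} (hc : c ∈ D.commTerms a b) :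
    D.cartan i c.1 = (c.2.2.1 : ℤ) * D.cartan i a + (c.2.2.2 : ℤ) * D.cartan i b := by
  obtain ⟨h1, -, -, h4⟩ := hF.commTerms_spec ha hb hba hbna hc
  rw [hF.r.cartan_lin i hi _ h1, hF.r.cartan_lin i hi _ ha, hF.r.cartan_lin i hi _ hb, sumZ_eq, sumZ_eq, sumZ_eq,
    Finset.mul_sum, Finset.mul_sum, ← Finset.sum_add_distrib]
  apply Finset.sum_congr rfl
  intro j hj
  rw [h4 j (Finset.mem_range.1 hj)]
  ring

include hF in
/-- The compatibility for `h̄_i(c)`. -/
theorem compat_tor {i a b : ℕ} (hi : i < D.rank) (ha : a < D.nroots) (hb : b < D.nroots) (hba : b ≠ a)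
    (hbna : b ≠ D.neg a) (e : Kˣ) (t w : K) :
    D.commWord K a b (((e ^ D.cartan i a : Kˣ) : K) * t) (((e ^ D.cartan i b : Kˣ) : K) * w) =
      (D.commWord K a b t w).map fun q => (q.1, ((e ^ D.cartan i q.1 : Kˣ) : K) * q.2) := by
  unfold ChevalleyDatum.commWord
  rw [List.map_map]
  apply List.map_congr_left
  intro c hc
  simp only [Function.comp, Prod.mk.injEq, true_and]
  have h1 : e ^ D.cartan i c.1 = (e ^ D.cartan i a) ^ c.2.2.1 * (e ^ D.cartan i b) ^ c.2.2.2 := by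
    rw [cartan_comm hF hi ha hb hba hbna hc, _root_.zpow_add, mul_comm (c.2.2.1 : ℤ), mul_comm (c.2.2.2 : ℤ), _root_.zpow_mul,
      _root_.zpow_mul, zpow_natCast, zpow_natCast]
  rw [h1, Units.val_mul, Units.val_pow_eq_pow_val, Units.val_pow_eq_pow_val, ← mul_neg, mul_pow, mul_pow]
  ring

include hF in
theorem conj_negAut (hN : NegOK D) (g : D.SteinbergCover K) {s : ℕ} (hs : s < D.nroots) (t : K) :
    negAut hF hN g * D.scGen K s t * (negAut hF hN g)⁻¹ =
      negAut hF hN (g * D.scGen K (D.neg s) (-t) * g⁻¹) := by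
  rw [map_mul, map_mul, map_inv, negAut_y hF hN (hF.neg_lt hs), hF.neg_neg hs, neg_neg]

include hF in
theorem wf_neg' {i s : ℕ} (hi : i < D.rank) (hs : s < D.nroots) : D.neg (X.wf i (D.neg s)) = X.wf i s := by
  rw [hF.wf_neg hi hs, hF.neg_neg (hF.wf_lt hi hs)]

include hF in
/-- Isolating the root element of `p_i`, for an element acting as `n_i` on the other roots. -/
theorem isolate_wf {i : ℕ} (hi : i < D.rank) (hW : WOK X D i) {g : D.SteinbergCover K}
    (hg : ∀ s < D.nroots, s ≠ D.simple i → s ≠ D.neg (D.simple i) → ∀ t,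
      g * D.scGen K s t * g⁻¹ = D.scGen K (X.wf i s) (((X.eta i s : ℤ) : K) * t)) (v : K) :
    g * D.scGen K (D.simple i) v * g⁻¹ =
      D.scGen K (X.wf i (D.simple i)) (((X.eta i (D.simple i) : ℤ) : K) * v) := by
  obtain ⟨a, b, pre, C, i₀, suf, ha, hb, hba, hbna, ha1, ha2, hb1, hb2, hL, hC, hpre, hsuf, hterms⟩ := hW
  have hinj : ∀ {x y : ℕ}, x < D.nroots → y < D.nroots → X.wf i x = X.wf i y → x = y := by
    intro x y hx hy h
    rw [← hF.wf_wf hi hx, h, hF.wf_wf hi hy]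
  have hmem : ∀ q ∈ D.commTerms a b, q.1 < D.nroots := fun q hq =>
    (hF.commTerms_spec ha hb hba hbna hq).1
  refine isolate (σ := X.wf i) (u := fun s => ((X.eta i s : ℤ) : K)) hg ha hb hba hbna ha1 ha2 hb1 hb2
    (hF.wf_lt hi ha) (hF.wf_lt hi hb) (fun h => hba (hinj hb ha h)) ?_ ?_ hL hC ?_ ?_ v
  · intro h
    rw [← hF.wf_neg hi ha] at h
    exact hbna (hinj hb (hF.neg_lt ha) h)
  · intro t w
    exact compat_wf hF hi ha hb hterms t w
  · intro q hq
    exact ⟨hmem q (by rw [hL]; simp [hq]), (hpre q hq).1, (hpre q hq).2⟩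
  · intro q hq
    exact ⟨hmem q (by rw [hL]; simp [hq]), (hsuf q hq).1, (hsuf q hq).2⟩

include hF in
/-- Isolating the root element of `p_i`, for an element acting as a torus element on the other roots. -/
theorem isolate_tor {i j : ℕ} (hi : i < D.rank) (hj : j < D.rank) (hW : WOK X D i) {g : D.SteinbergCover K} (e : Kˣ)
    (hg : ∀ s < D.nroots, s ≠ D.simple i → s ≠ D.neg (D.simple i) → ∀ t,
      g * D.scGen K s t * g⁻¹ = D.scGen K s (((e ^ D.cartan j s : Kˣ) : K) * t)) (v : K) :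
    g * D.scGen K (D.simple i) v * g⁻¹ =
      D.scGen K (D.simple i) (((e ^ D.cartan j (D.simple i) : Kˣ) : K) * v) := by
  obtain ⟨a, b, pre, C, i₀, suf, ha, hb, hba, hbna, ha1, ha2, hb1, hb2, hL, hC, hpre, hsuf, hterms⟩ := hW
  have hmem : ∀ q ∈ D.commTerms a b, q.1 < D.nroots := fun q hq =>
    (hF.commTerms_spec ha hb hba hbna hq).1
  refine isolate (σ := id) (u := fun s => ((e ^ D.cartan j s : Kˣ) : K)) hg ha hb hba hbna ha1 ha2 hb1 hb2
    ha hb hba hbna ?_ hL hC ?_ ?_ v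
  · intro t w
    exact compat_tor hF hj ha hb hba hbna e t w
  · intro q hq
    exact ⟨hmem q (by rw [hL]; simp [hq]), (hpre q hq).1, (hpre q hq).2⟩
  · intro q hq
    exact ⟨hmem q (by rw [hL]; simp [hq]), (hsuf q hq).1, (hsuf q hq).2⟩

include hF in
theorem nb_conj_ne (hP : NegOK D) {i s : ℕ} (hi : i < D.rank) (hs : s < D.nroots) (h1 : s ≠ D.simple i)
    (h2 : s ≠ D.neg (D.simple i)) (v : K) :
    nb D K (D.simple i) 1 * D.scGen K s v * (nb D K (D.simple i) 1)⁻¹ =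
      D.scGen K (X.wf i s) (((X.eta i s : ℤ) : K) * v) := by
  by_cases h : R.N ≤ s
  · exact nb_conj_pos hF hi ⟨(hF.isPos_iff).2 ⟨hs, h⟩, h1⟩ v
  · exact nb_conj_neg hF hP hi (by omega) h2 v

include hF in
theorem hb_conj_ne (hP : NegOK D) {i s : ℕ} (hi : i < D.rank) (hs : s < D.nroots) (h1 : s ≠ D.simple i)
    (h2 : s ≠ D.neg (D.simple i)) (c : Kˣ) (v : K) :
    hb D K (D.simple i) c * D.scGen K s v * (hb D K (D.simple i) c)⁻¹ =
      D.scGen K s (((c ^ D.cartan i s : Kˣ) : K) * v) := by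
  by_cases h : R.N ≤ s
  · exact hb_conj_pos hF hi ⟨(hF.isPos_iff).2 ⟨hs, h⟩, h1⟩ c v
  · exact hb_conj_neg hF hP hi (by omega) h2 c v

include hF in
theorem ne_neg_simple_of {i s : ℕ} (hi : i < D.rank) (hs : s < D.nroots) (h1 : s ≠ D.simple i)
    (h2 : s ≠ D.neg (D.simple i)) : D.neg s ≠ D.simple i ∧ D.neg s ≠ D.neg (D.simple i) := by
  constructor
  · intro h
    apply h2
    rw [← h, hF.neg_neg hs]
  · exact neg_ne_of hF (hF.simple_lt hi) hs h1

include hF in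
/-- `n̄_i` on all the root elements. -/
theorem nb_conj (hP : PresOK X D) {i s : ℕ} (hi : i < D.rank) (hs : s < D.nroots) (v : K) :
    nb D K (D.simple i) 1 * D.scGen K s v * (nb D K (D.simple i) 1)⁻¹ =
      D.scGen K (X.wf i s) (((X.eta i s : ℤ) : K) * v) := by
  by_cases h1 : s = D.simple i
  · subst h1
    exact isolate_wf hF hi (hP.w i hi) (fun s hs h1 h2 t => nb_conj_ne hF hP.neg hi hs h1 h2 t) v
  by_cases h2 : s = D.neg (D.simple i)
  · subst h2
    have hp := hF.simple_lt hi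
    set n := nb D K (D.simple i) 1 with hn
    have h3 := isolate_wf hF hi (hP.w i hi) (g := negAut hF hP.neg n) (by
      intro s hs h1 h2 t
      rw [conj_negAut hF hP.neg n hs]
      obtain ⟨h3, h4⟩ := ne_neg_simple_of hF hi hs h1 h2
      rw [hn, nb_conj_ne hF hP.neg hi (hF.neg_lt hs) h3 h4, negAut_y hF hP.neg (hF.wf_lt hi (hF.neg_lt hs)),
        wf_neg' hF hi hs, hF.eta_neg hi hs, mul_neg, neg_neg]) (-v)
    have h4 := congrArg (negAut hF hP.neg) h3
    rw [map_mul, map_mul, map_inv, negAut_negAut, negAut_y hF hP.neg hp,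
      negAut_y hF hP.neg (hF.wf_lt hi hp), neg_neg, hF.wf_simple hi, hF.neg_neg hp] at h4
    rw [h4, hF.wf_neg_simple hi, hF.eta_neg hi hp, mul_neg, neg_neg]
  · exact nb_conj_ne hF hP.neg hi hs h1 h2 v

include hF in
/-- `h̄_i(c)` on all the root elements. -/
theorem hb_conj (hP : PresOK X D) {i s : ℕ} (hi : i < D.rank) (hs : s < D.nroots) (c : Kˣ) (v : K) :
    hb D K (D.simple i) c * D.scGen K s v * (hb D K (D.simple i) c)⁻¹ =
      D.scGen K s (((c ^ D.cartan i s : Kˣ) : K) * v) := by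
  by_cases h1 : s = D.simple i
  · subst h1
    exact isolate_tor hF hi hi (hP.w i hi) c (fun s hs h1 h2 t => hb_conj_ne hF hP.neg hi hs h1 h2 c t) v
  by_cases h2 : s = D.neg (D.simple i)
  · subst h2
    have hp := hF.simple_lt hi
    set n := hb D K (D.simple i) c with hn
    have h3 := isolate_tor hF hi hi (hP.w i hi) (g := negAut hF hP.neg n) c⁻¹ (by
      intro s hs h1 h2 t
      rw [conj_negAut hF hP.neg n hs]
      obtain ⟨h3, h4⟩ := ne_neg_simple_of hF hi hs h1 h2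
      rw [hn, hb_conj_ne hF hP.neg hi (hF.neg_lt hs) h3 h4, negAut_y hF hP.neg (hF.neg_lt hs), hF.neg_neg hs,
        hF.cartan_neg hs hi, mul_neg, neg_neg, _root_.inv_zpow']) (-v)
    have h4 := congrArg (negAut hF hP.neg) h3
    rw [map_mul, map_mul, map_inv, negAut_negAut, negAut_y hF hP.neg hp, negAut_y hF hP.neg hp, neg_neg,
      mul_neg, neg_neg, _root_.inv_zpow'] at h4
    rw [h4, hF.cartan_neg hp hi]
  · exact hb_conj_ne hF hP.neg hi hs h1 h2 c v

/-! ### Root actions in `Ḡ` -/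

/-- `g` acts on root elements of `Ḡ` through `σ` and scalars `u`. -/
structure RootActB (hF : Full T X R D) (g : D.SteinbergCover K) (σ : Equiv.Perm (Fin D.nroots))
    (u : Fin D.nroots → Kˣ) : Prop where
  conj : ∀ (s : Fin D.nroots) (t : K), g * D.scGen K s t * g⁻¹ = D.scGen K (σ s) ((u s : K) * t)
  neg_σ : ∀ s, σ (hF.negF s) = hF.negF (σ s)
  neg_u : ∀ s, u (hF.negF s) = (u s)⁻¹

theorem rootActB_one : RootActB hF (1 : D.SteinbergCover K) 1 1 where
  conj s t := by simp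
  neg_σ s := rfl
  neg_u s := by simp

variable {hF} in
theorem RootActB.mul {g₁ g₂ : D.SteinbergCover K} {σ₁ σ₂ u₁ u₂}
    (h₁ : RootActB hF g₁ σ₁ u₁) (h₂ : RootActB hF g₂ σ₂ u₂) :
    RootActB hF (g₁ * g₂) (σ₁ * σ₂) (fun s => u₁ (σ₂ s) * u₂ s) where
  conj s t := by
    have h : g₁ * g₂ * D.scGen K s t * (g₁ * g₂)⁻¹ = g₁ * (g₂ * D.scGen K s t * g₂⁻¹) * g₁⁻¹ := by group
    rw [h, h₂.conj, h₁.conj]
    simp [mul_assoc]
  neg_σ s := by
    simp only [Equiv.Perm.mul_apply, h₂.neg_σ, h₁.neg_σ]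
  neg_u s := by
    simp only [h₂.neg_σ, h₁.neg_u, h₂.neg_u, mul_inv]

variable {hF} in
theorem RootActB.inv {g : D.SteinbergCover K} {σ u} (h : RootActB hF g σ u) :
    RootActB hF g⁻¹ σ⁻¹ (fun s => (u (σ⁻¹ s))⁻¹) := by
  have hs1 : ∀ s, σ (σ⁻¹ s) = s := fun s => by simp
  have hs2 : ∀ s, σ⁻¹ (σ s) = s := fun s => by simp
  have h2 : ∀ s, σ⁻¹ (hF.negF s) = hF.negF (σ⁻¹ s) := by
    intro s
    have h1 := h.neg_σ (σ⁻¹ s)
    rw [hs1] at h1
    rw [← h1, hs2]
  refine ⟨?_, h2, ?_⟩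
  · intro s t
    have h1 := h.conj (σ⁻¹ s) (((u (σ⁻¹ s))⁻¹ : Kˣ) * t)
    rw [hs1, ← mul_assoc, ← Units.val_mul, mul_inv_cancel, Units.val_one, one_mul] at h1
    rw [← h1]
    group
  · intro s
    rw [h2, h.neg_u]

variable {hF} in
/-- Conjugation of `n̄_s(t)` by an element with a root action. -/
theorem RootActB.conj_nb {g : D.SteinbergCover K} {σ u} (h : RootActB hF g σ u) (s : Fin D.nroots) (t : K) :
    g * nb D K s t * g⁻¹ = nb D K (σ s) ((u s : K) * t) := by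
  unfold nb
  have h1 : g * (D.scGen K s t * D.scGen K (D.neg s) (-t⁻¹) * D.scGen K s t) * g⁻¹ =
      (g * D.scGen K s t * g⁻¹) * (g * D.scGen K (D.neg s) (-t⁻¹) * g⁻¹) * (g * D.scGen K s t * g⁻¹) := by
    group
  rw [h1, h.conj s t]
  have h2 := h.conj (hF.negF s) (-t⁻¹)
  have h3 : ((hF.negF s : Fin D.nroots) : ℕ) = D.neg s := rfl
  rw [h3] at h2
  rw [h2, h.neg_σ, h.neg_u]
  have h4 : ((hF.negF (σ s) : Fin D.nroots) : ℕ) = D.neg (σ s) := rfl
  rw [h4]
  congr 2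
  congr 1
  rw [Units.val_inv_eq_inv_val, mul_inv]
  ring

variable {hF} in
/-- A root action in `Ḡ` gives a root action in `GL`. -/
theorem RootActB.toAct {g : D.SteinbergCover K} {σ u} (h : RootActB hF g σ u) :
    hF.RootAct (theta hF g) σ u where
  conj s t := by
    have h1 := congrArg (theta hF) (h.conj s t)
    rwa [map_mul, map_mul, map_inv, theta_y hF s.2, theta_y hF (σ s).2] at h1
  neg_σ := h.neg_σ
  neg_u := h.neg_u

include hF in
/-- `n̄_i` has a root action. -/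
theorem rootActB_nS (hP : PresOK X D) {i : ℕ} (hi : i < D.rank) :
    RootActB hF (nb D K (D.simple i) 1) (hF.wPerm hi) (hF.etaU (F := K) hi) where
  conj s t := by
    rw [nb_conj hF hP hi s.2]
    rfl
  neg_σ := (hF.rootAct_nS (F := K) hi).neg_σ
  neg_u := (hF.rootAct_nS (F := K) hi).neg_u

include hF in
/-- `h̄_i(c)` has a root action. -/
theorem rootActB_hb (hP : PresOK X D) {i : ℕ} (hi : i < D.rank) (c : Kˣ) :
    RootActB hF (hb D K (D.simple i) c) 1 (fun s => c ^ D.cartan i s) where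
  conj s t := by
    rw [hb_conj hF hP hi s.2]
    rfl
  neg_σ s := rfl
  neg_u s := by
    show c ^ D.cartan i (D.neg s) = _
    rw [hF.cartan_neg s.2 hi, _root_.zpow_neg]

end Cfsg.Agent.Lib.ChevCov
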